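import Mathlib
import Cfsg.Agent.H29.Fi24T.B
import Cfsg.Agent.H29.Tau
import Cfsg.Agent.H29.Fi24H.D0

set_option autoImplicit false
set_option maxRecDepth 100000
set_option Elab.async false
set_option linter.all false

namespace H29.Fi24H

noncomputable def ly : List Net := [x12, x14, x16, x18, x20, x22, x24, x26]
noncomputable def nx : ℕ → Net := nth Net.nil (Fi24T.nl ++ dbl ly)
def ivx : List ℕ := [0, 1, 2, 3, 4, 5, 6, 7, 8, 9, 10, 11, 13, 12, 15, 14, 17, 16, 19, 18, 21, 20, 23, 22, 25, 24, 27, 26]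
def defs : List (List ℕ) := [[11, 1, 3, 6, 8, 5, 0, 2, 10, 4, 9, 7, 5, 4, 3, 11, 9, 6, 2, 10, 8, 1, 0, 7, 4, 1, 11, 3, 0, 9, 8, 2, 7, 6, 5, 10, 2, 3, 4, 10, 6, 8, 1, 5, 7, 9, 0, 11, 1, 4, 7, 5, 0, 10, 3, 9, 6, 2, 11, 8, 1, 0, 6, 8, 5, 11, 4, 2, 3, 7, 9, 10],
 [12, 12, 0, 11, 12, 12, 12, 0, 11, 12, 0, 11, 13, 0, 11, 12, 12, 12, 0, 11, 13, 13, 13, 0, 11, 12, 0, 11, 13, 0, 11, 13, 13, 13, 0, 11, 13, 13],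
 [0, 11, 12, 0, 11, 13, 13, 13, 13, 0, 11, 12, 12, 0, 11, 12, 12, 0, 11, 13, 13, 0, 11, 13, 13, 0, 11, 12, 12, 12, 12, 0, 11, 13, 0, 11],
 [13, 0, 11, 12, 0, 11, 12, 12, 0, 11, 13, 13, 0, 11, 12, 12, 0, 11, 12, 12, 12, 12, 12, 12, 0, 11, 12, 12, 0, 11, 13, 0, 11, 12, 12, 0, 11, 12, 12, 0, 11, 13],
 [0, 11, 12, 12, 12, 0, 11, 13, 13, 0, 11, 13, 0, 11, 13, 13, 13, 0, 11, 12, 12, 12, 12, 12, 12, 0, 11, 13, 13, 13, 0, 11, 12, 12, 0, 11, 12, 0, 11, 13, 13, 13],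
 [12, 12, 0, 11, 12, 12, 0, 11, 13, 13, 13, 13, 13, 0, 11, 13, 0, 11, 13, 13, 0, 11, 12, 0, 11, 13, 13, 13, 13, 0, 11, 12, 12, 12, 0, 11, 12, 0, 11],
 [16, 18, 16, 18, 16, 18, 16, 18, 16, 18],
 [20, 22, 20, 22]]
theorem hext : chkExt 12 defs Fi24T.ivl ivx = true := by decide +kernel
theorem hn : NetsOK 306936 nx := netsOK_ext Fi24T.hn (by decide +kernel)
theorem hiv : IvOK (sg nx) (ivOf ivx) := ivOK_ext Fi24T.hiv hext rfl rfl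
def E0 : List (List ℕ) := [[13, 11, 1, 3, 6, 8, 5, 0, 2, 10, 4, 9, 7, 5, 4, 3, 11, 9, 6, 2, 10, 8, 1, 0, 7, 4, 1, 11, 3, 0, 9, 8, 2, 7, 6, 5, 10, 2, 3, 4, 10, 6, 8, 1, 5, 7, 9, 0, 11, 1, 4, 7, 5, 0, 10, 3, 9, 6, 2, 11, 8, 1, 0, 6, 8, 5, 11, 4, 2, 3, 7, 9, 10], [15, 12, 12, 0, 11, 12, 12, 12, 0, 11, 12, 0, 11, 13, 0, 11, 12, 12, 12, 0, 11, 13, 13, 13, 0, 11, 12, 0, 11, 13, 0, 11, 13, 13, 13, 0, 11, 13, 13]]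
def E1 : List (List ℕ) := [[17, 0, 11, 12, 0, 11, 13, 13, 13, 13, 0, 11, 12, 12, 0, 11, 12, 12, 0, 11, 13, 13, 0, 11, 13, 13, 0, 11, 12, 12, 12, 12, 0, 11, 13, 0, 11], [19, 13, 0, 11, 12, 0, 11, 12, 12, 0, 11, 13, 13, 0, 11, 12, 12, 0, 11, 12, 12, 12, 12, 12, 12, 0, 11, 12, 12, 0, 11, 13, 0, 11, 12, 12, 0, 11, 12, 12, 0, 11, 13], [21, 0, 11, 12, 12, 12, 0, 11, 13, 13, 0, 11, 13, 0, 11, 13, 13, 13, 0, 11, 12, 12, 12, 12, 12, 12, 0, 11, 13, 13, 13, 0, 11, 12, 12, 0, 11, 12, 0, 11, 13, 13, 13]]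
def E2 : List (List ℕ) := [[23, 12, 12, 0, 11, 12, 12, 0, 11, 13, 13, 13, 13, 13, 0, 11, 13, 0, 11, 13, 13, 0, 11, 12, 0, 11, 13, 13, 13, 13, 0, 11, 12, 12, 12, 0, 11, 12, 0, 11], [25, 16, 18, 16, 18, 16, 18, 16, 18, 16, 18], [27, 20, 22, 20, 22]]

end H29.Fi24H
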