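import Mathlib
import Cfsg.Agent.H29.Fi24H.B

set_option autoImplicit false
set_option maxRecDepth 100000
set_option Elab.async false
set_option linter.all false

namespace H29.Fi24H

theorem e0_0 : chkRelP 306936 19 nx (ivOf ivx) E0 0 = true := by decide +kernel

theorem e0_1 : chkRelP 306936 19 nx (ivOf ivx) E0 1 = true := by decide +kernel

theorem e0_2 : chkRelP 306936 19 nx (ivOf ivx) E0 2 = true := by decide +kernel

theorem e0_3 : chkRelP 306936 19 nx (ivOf ivx) E0 3 = true := by decide +kernel

theorem e0_4 : chkRelP 306936 19 nx (ivOf ivx) E0 4 = true := by decide +kernel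

theorem e0_5 : chkRelP 306936 19 nx (ivOf ivx) E0 5 = true := by decide +kernel

theorem e0_6 : chkRelP 306936 19 nx (ivOf ivx) E0 6 = true := by decide +kernel

theorem e0_7 : chkRelP 306936 19 nx (ivOf ivx) E0 7 = true := by decide +kernel

end H29.Fi24H
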