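import Mathlib
import Cfsg.Agent.H29.Fi24H.B

set_option autoImplicit false
set_option maxRecDepth 100000
set_option Elab.async false
set_option linter.all false

namespace H29.Fi24H

theorem z1_14 : chkRelP 306936 19 nx (ivOf ivx) [[26, 16, 14, 24, 16, 14, 24, 16, 14, 24], [24, 18, 16, 18, 16, 18, 16, 18, 16, 18, 16], [16, 18, 20, 22, 16, 18, 20, 22, 16, 18, 20, 22, 16, 18, 20, 22]] 14 = true := by decide +kernel

theorem z1_15 : chkRelP 306936 19 nx (ivOf ivx) [[26, 16, 14, 24, 16, 14, 24, 16, 14, 24], [24, 18, 16, 18, 16, 18, 16, 18, 16, 18, 16], [16, 18, 20, 22, 16, 18, 20, 22, 16, 18, 20, 22, 16, 18, 20, 22]] 15 = true := by decide +kernel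

theorem z1_16 : chkRelP 306936 19 nx (ivOf ivx) [[26, 16, 14, 24, 16, 14, 24, 16, 14, 24], [24, 18, 16, 18, 16, 18, 16, 18, 16, 18, 16], [16, 18, 20, 22, 16, 18, 20, 22, 16, 18, 20, 22, 16, 18, 20, 22]] 16 = true := by decide +kernel

theorem z1_17 : chkRelP 306936 19 nx (ivOf ivx) [[26, 16, 14, 24, 16, 14, 24, 16, 14, 24], [24, 18, 16, 18, 16, 18, 16, 18, 16, 18, 16], [16, 18, 20, 22, 16, 18, 20, 22, 16, 18, 20, 22, 16, 18, 20, 22]] 17 = true := by decide +kernel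

theorem z1_18 : chkRelP 306936 19 nx (ivOf ivx) [[26, 16, 14, 24, 16, 14, 24, 16, 14, 24], [24, 18, 16, 18, 16, 18, 16, 18, 16, 18, 16], [16, 18, 20, 22, 16, 18, 20, 22, 16, 18, 20, 22, 16, 18, 20, 22]] 18 = true := by decide +kernel

end H29.Fi24H
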