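import Mathlib
import Cfsg.Agent.H29.Fi24H.B

set_option autoImplicit false
set_option maxRecDepth 100000
set_option Elab.async false
set_option linter.all false

namespace H29.Fi24H

theorem e0_16 : chkRelP 306936 19 nx (ivOf ivx) E0 16 = true := by decide +kernel

theorem e0_17 : chkRelP 306936 19 nx (ivOf ivx) E0 17 = true := by decide +kernel

theorem e0_18 : chkRelP 306936 19 nx (ivOf ivx) E0 18 = true := by decide +kernel

theorem e1_0 : chkRelP 306936 19 nx (ivOf ivx) E1 0 = true := by decide +kernel

theorem e1_1 : chkRelP 306936 19 nx (ivOf ivx) E1 1 = true := by decide +kernel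

theorem e1_2 : chkRelP 306936 19 nx (ivOf ivx) E1 2 = true := by decide +kernel

theorem e1_3 : chkRelP 306936 19 nx (ivOf ivx) E1 3 = true := by decide +kernel

end H29.Fi24H
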