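import Mathlib
import Cfsg.Agent.H29.Fi24H.B

set_option autoImplicit false
set_option maxRecDepth 100000
set_option Elab.async false
set_option linter.all false

namespace H29.Fi24H

theorem e1_18 : chkRelP 306936 19 nx (ivOf ivx) E1 18 = true := by decide +kernel

theorem e2_0 : chkRelP 306936 19 nx (ivOf ivx) E2 0 = true := by decide +kernel

theorem e2_1 : chkRelP 306936 19 nx (ivOf ivx) E2 1 = true := by decide +kernel

theorem e2_2 : chkRelP 306936 19 nx (ivOf ivx) E2 2 = true := by decide +kernel

theorem e2_3 : chkRelP 306936 19 nx (ivOf ivx) E2 3 = true := by decide +kernel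

theorem e2_4 : chkRelP 306936 19 nx (ivOf ivx) E2 4 = true := by decide +kernel

theorem e2_5 : chkRelP 306936 19 nx (ivOf ivx) E2 5 = true := by decide +kernel

theorem e2_6 : chkRelP 306936 19 nx (ivOf ivx) E2 6 = true := by decide +kernel

theorem e2_7 : chkRelP 306936 19 nx (ivOf ivx) E2 7 = true := by decide +kernel

theorem e2_8 : chkRelP 306936 19 nx (ivOf ivx) E2 8 = true := by decide +kernel

theorem e2_9 : chkRelP 306936 19 nx (ivOf ivx) E2 9 = true := by decide +kernel

theorem e2_10 : chkRelP 306936 19 nx (ivOf ivx) E2 10 = true := by decide +kernel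

theorem e2_11 : chkRelP 306936 19 nx (ivOf ivx) E2 11 = true := by decide +kernel

theorem e2_12 : chkRelP 306936 19 nx (ivOf ivx) E2 12 = true := by decide +kernel

theorem e2_13 : chkRelP 306936 19 nx (ivOf ivx) E2 13 = true := by decide +kernel

end H29.Fi24H
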