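import Mathlib
import Cfsg.Agent.H29.Fi24H.B

set_option autoImplicit false
set_option maxRecDepth 100000
set_option Elab.async false
set_option linter.all false

namespace H29.Fi24H

theorem z0_16 : chkRelP 306936 19 nx (ivOf ivx) [[24, 24], [14, 14], [16, 16], [18, 18], [26, 26], [20, 20], [22, 22], [24, 14, 24, 14, 24, 14, 24, 14], [24, 16, 24, 16], [24, 18, 24, 18], [24, 26, 24, 26], [24, 20, 24, 20], [24, 22, 24, 22], [14, 16, 14, 16, 14, 16], [14, 18, 14, 18], [14, 26, 14, 26], [14, 20, 14, 20], [14, 22, 14, 22], [16, 18, 16, 18, 16, 18, 16, 18, 16, 18, 16, 18, 16, 18, 16, 18, 16, 18, 16, 18], [16, 26, 16, 26], [16, 20, 16, 20], [16, 22, 16, 22], [18, 26, 18, 26, 18, 26], [18, 20, 18, 20, 18, 20], [18, 22, 18, 22, 18, 22], [26, 20, 26, 20], [26, 22, 26, 22], [20, 22, 20, 22, 20, 22, 20, 22], [26, 22, 20, 22, 20]] 16 = true := by decide +kernel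

theorem z0_17 : chkRelP 306936 19 nx (ivOf ivx) [[24, 24], [14, 14], [16, 16], [18, 18], [26, 26], [20, 20], [22, 22], [24, 14, 24, 14, 24, 14, 24, 14], [24, 16, 24, 16], [24, 18, 24, 18], [24, 26, 24, 26], [24, 20, 24, 20], [24, 22, 24, 22], [14, 16, 14, 16, 14, 16], [14, 18, 14, 18], [14, 26, 14, 26], [14, 20, 14, 20], [14, 22, 14, 22], [16, 18, 16, 18, 16, 18, 16, 18, 16, 18, 16, 18, 16, 18, 16, 18, 16, 18, 16, 18], [16, 26, 16, 26], [16, 20, 16, 20], [16, 22, 16, 22], [18, 26, 18, 26, 18, 26], [18, 20, 18, 20, 18, 20], [18, 22, 18, 22, 18, 22], [26, 20, 26, 20], [26, 22, 26, 22], [20, 22, 20, 22, 20, 22, 20, 22], [26, 22, 20, 22, 20]] 17 = true := by decide +kernel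

theorem z0_18 : chkRelP 306936 19 nx (ivOf ivx) [[24, 24], [14, 14], [16, 16], [18, 18], [26, 26], [20, 20], [22, 22], [24, 14, 24, 14, 24, 14, 24, 14], [24, 16, 24, 16], [24, 18, 24, 18], [24, 26, 24, 26], [24, 20, 24, 20], [24, 22, 24, 22], [14, 16, 14, 16, 14, 16], [14, 18, 14, 18], [14, 26, 14, 26], [14, 20, 14, 20], [14, 22, 14, 22], [16, 18, 16, 18, 16, 18, 16, 18, 16, 18, 16, 18, 16, 18, 16, 18, 16, 18, 16, 18], [16, 26, 16, 26], [16, 20, 16, 20], [16, 22, 16, 22], [18, 26, 18, 26, 18, 26], [18, 20, 18, 20, 18, 20], [18, 22, 18, 22, 18, 22], [26, 20, 26, 20], [26, 22, 26, 22], [20, 22, 20, 22, 20, 22, 20, 22], [26, 22, 20, 22, 20]] 18 = true := by decide +kernel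

theorem z1_0 : chkRelP 306936 19 nx (ivOf ivx) [[26, 16, 14, 24, 16, 14, 24, 16, 14, 24], [24, 18, 16, 18, 16, 18, 16, 18, 16, 18, 16], [16, 18, 20, 22, 16, 18, 20, 22, 16, 18, 20, 22, 16, 18, 20, 22]] 0 = true := by decide +kernel

theorem z1_1 : chkRelP 306936 19 nx (ivOf ivx) [[26, 16, 14, 24, 16, 14, 24, 16, 14, 24], [24, 18, 16, 18, 16, 18, 16, 18, 16, 18, 16], [16, 18, 20, 22, 16, 18, 20, 22, 16, 18, 20, 22, 16, 18, 20, 22]] 1 = true := by decide +kernel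

theorem z1_2 : chkRelP 306936 19 nx (ivOf ivx) [[26, 16, 14, 24, 16, 14, 24, 16, 14, 24], [24, 18, 16, 18, 16, 18, 16, 18, 16, 18, 16], [16, 18, 20, 22, 16, 18, 20, 22, 16, 18, 20, 22, 16, 18, 20, 22]] 2 = true := by decide +kernel

theorem z1_3 : chkRelP 306936 19 nx (ivOf ivx) [[26, 16, 14, 24, 16, 14, 24, 16, 14, 24], [24, 18, 16, 18, 16, 18, 16, 18, 16, 18, 16], [16, 18, 20, 22, 16, 18, 20, 22, 16, 18, 20, 22, 16, 18, 20, 22]] 3 = true := by decide +kernel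

theorem z1_4 : chkRelP 306936 19 nx (ivOf ivx) [[26, 16, 14, 24, 16, 14, 24, 16, 14, 24], [24, 18, 16, 18, 16, 18, 16, 18, 16, 18, 16], [16, 18, 20, 22, 16, 18, 20, 22, 16, 18, 20, 22, 16, 18, 20, 22]] 4 = true := by decide +kernel

theorem z1_5 : chkRelP 306936 19 nx (ivOf ivx) [[26, 16, 14, 24, 16, 14, 24, 16, 14, 24], [24, 18, 16, 18, 16, 18, 16, 18, 16, 18, 16], [16, 18, 20, 22, 16, 18, 20, 22, 16, 18, 20, 22, 16, 18, 20, 22]] 5 = true := by decide +kernel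

theorem z1_6 : chkRelP 306936 19 nx (ivOf ivx) [[26, 16, 14, 24, 16, 14, 24, 16, 14, 24], [24, 18, 16, 18, 16, 18, 16, 18, 16, 18, 16], [16, 18, 20, 22, 16, 18, 20, 22, 16, 18, 20, 22, 16, 18, 20, 22]] 6 = true := by decide +kernel

theorem z1_7 : chkRelP 306936 19 nx (ivOf ivx) [[26, 16, 14, 24, 16, 14, 24, 16, 14, 24], [24, 18, 16, 18, 16, 18, 16, 18, 16, 18, 16], [16, 18, 20, 22, 16, 18, 20, 22, 16, 18, 20, 22, 16, 18, 20, 22]] 7 = true := by decide +kernel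

theorem z1_8 : chkRelP 306936 19 nx (ivOf ivx) [[26, 16, 14, 24, 16, 14, 24, 16, 14, 24], [24, 18, 16, 18, 16, 18, 16, 18, 16, 18, 16], [16, 18, 20, 22, 16, 18, 20, 22, 16, 18, 20, 22, 16, 18, 20, 22]] 8 = true := by decide +kernel

theorem z1_9 : chkRelP 306936 19 nx (ivOf ivx) [[26, 16, 14, 24, 16, 14, 24, 16, 14, 24], [24, 18, 16, 18, 16, 18, 16, 18, 16, 18, 16], [16, 18, 20, 22, 16, 18, 20, 22, 16, 18, 20, 22, 16, 18, 20, 22]] 9 = true := by decide +kernel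

theorem z1_10 : chkRelP 306936 19 nx (ivOf ivx) [[26, 16, 14, 24, 16, 14, 24, 16, 14, 24], [24, 18, 16, 18, 16, 18, 16, 18, 16, 18, 16], [16, 18, 20, 22, 16, 18, 20, 22, 16, 18, 20, 22, 16, 18, 20, 22]] 10 = true := by decide +kernel

theorem z1_11 : chkRelP 306936 19 nx (ivOf ivx) [[26, 16, 14, 24, 16, 14, 24, 16, 14, 24], [24, 18, 16, 18, 16, 18, 16, 18, 16, 18, 16], [16, 18, 20, 22, 16, 18, 20, 22, 16, 18, 20, 22, 16, 18, 20, 22]] 11 = true := by decide +kernel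

theorem z1_12 : chkRelP 306936 19 nx (ivOf ivx) [[26, 16, 14, 24, 16, 14, 24, 16, 14, 24], [24, 18, 16, 18, 16, 18, 16, 18, 16, 18, 16], [16, 18, 20, 22, 16, 18, 20, 22, 16, 18, 20, 22, 16, 18, 20, 22]] 12 = true := by decide +kernel

theorem z1_13 : chkRelP 306936 19 nx (ivOf ivx) [[26, 16, 14, 24, 16, 14, 24, 16, 14, 24], [24, 18, 16, 18, 16, 18, 16, 18, 16, 18, 16], [16, 18, 20, 22, 16, 18, 20, 22, 16, 18, 20, 22, 16, 18, 20, 22]] 13 = true := by decide +kernel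

end H29.Fi24H
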